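import Cfsg.Agent.Lib.Helper29.TcCox
import Cfsg.Prelude.Def_Spor_Suz
import Cfsg.Agent.Lib.Helper29.SuzG1.Tab0

/-! Generated certificate data for SuzG1 (Suz): tables of a Todd–Coxeter trace and of the coset action. -/

set_option autoImplicit false

namespace Cfsg.Agent.Lib.Helper29.SuzG1

open Cfsg.Agent.Lib.Helper29.TcTrace Cfsg.Agent.Lib.Helper29.TcCert Cfsg.Agent.Lib.Helper29.TcPerm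

def nodesL : List Cfsg.Spor.Suz.Gen := [.a, .b, .c, .d, .e]
def edgesQ : List (Cfsg.Spor.Suz.Gen × ℕ × Cfsg.Spor.Suz.Gen) := [(.a, 5, .b), (.b, 3, .c), (.c, 8, .d), (.d, 3, .e)]
def extraWords : List (List (Cfsg.Spor.Suz.Gen × Bool)) := [[(.a, true), (.d, false), (.c, false), (.d, false), (.c, false), (.d, false), (.c, false), (.d, false), (.c, false)],
  [(.b, true), (.c, true), (.d, true), (.c, true), (.d, true), (.b, true), (.c, true), (.d, true), (.c, true), (.d, true), (.b, true), (.c, true), (.d, true), (.c, true), (.d, true), (.b, true), (.c, true), (.d, true), (.c, true), (.d, true), (.b, true), (.c, true), (.d, true), (.c, true), (.d, true), (.e, true), (.b, true), (.c, true), (.d, true), (.c, true), (.d, true),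 (.b, true), (.c, true), (.d, true), (.c, true), (.d, true), (.b, true), (.c, true), (.d, true), (.c, true), (.d, true), (.b, true), (.c, true), (.d, true), (.c, true), (.d, true), (.b, true), (.c, true), (.d, true), (.c, true), (.d, true), (.e, true), (.b, true), (.c, true), (.d, true), (.c, true), (.d, true), (.b, true), (.c, true), (.d, true), (.c, true), (.d, true), (.b, true), (.c, true), (.d, true), (.c, true), (.d, true), (.b, true), (.c, true), (.d, true), (.c, true), (.d, true), (.b, true), (.c, true), (.d, true), (.c, true), (.d, true), (.e, true)],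
  [(.f, true)],
  [(.g, true)]]
def hWords : List (List (Cfsg.Spor.Suz.Gen × Bool)) := [[(.a, true)],
  [(.c, true)],
  [(.e, true)],
  [(.b, true), (.c, true), (.d, true), (.c, true), (.b, true)],
  [(.d, true), (.c, true), (.d, true), (.e, true), (.d, true), (.c, true), (.d, true)]]
def colOf : Cfsg.Spor.Suz.Gen × Bool → ℕ
  | (.a, _) => 0
  | (.b, _) => 1
  | (.c, _) => 2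
  | (.d, _) => 3
  | (.e, _) => 4
  | (.f, true) => 5
  | (.f, false) => 6
  | (.g, true) => 7
  | (.g, false) => 8
def colLetters : List (Cfsg.Spor.Suz.Gen × Bool) := [(.a, true), (.b, true), (.c, true), (.d, true), (.e, true), (.f, true), (.f, false), (.g, true), (.g, false)]
def invL : List ℕ := [0, 1, 2, 3, 4, 6, 5, 8, 7]
def vtree : WTree := (.node (.node (.node (.node (.node (.node (.node (.leaf 33 0 []) (.leaf 24 1 [6, 5])) (.node (.leaf 15 6 [2, 3, 2, 0, 3, 2, 3, 2, 3]) (.leaf 33 0 []))) (.node (.node (.leaf 8 1 [4, 1, 4, 1]) (.leaf 32 1 [2, 3, 4, 3, 2, 3, 13, 3])) (.node (.leaf 16 13 [2, 3, 1, 2, 3, 2, 3, 1, 2, 3, 2, 3, 4, 1, 2, 3, 2, 3, 1, 2, 3, 2, 3, 1, 2, 3, 2, 3, 1, 2, 3, 2, 3, 1, 2, 3, 2, 3, 4, 1, 2, 3,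 2, 3, 1, 2, 3, 2, 3, 1, 2, 3, 2, 3, 1, 2, 3, 2, 3, 1, 2, 3, 2, 3, 4, 1, 2, 3, 2, 3, 1, 2, 3, 2, 3, 1, 2, 3]) (.leaf 33 0 [])))) (.node (.node (.node (.leaf 4 0 [0, 4, 0, 4]) (.leaf 30 1 [11, 4])) (.node (.leaf 16 5 [1, 2, 3, 2, 3, 1, 2, 3, 2, 3, 1, 2, 3, 2, 3, 1, 2, 3, 2, 3, 4, 1, 2, 3, 2, 3, 1, 2, 3, 2, 3, 1, 2, 3, 2, 3, 1, 2, 3, 2, 3, 1, 2, 3, 2, 3, 4, 1, 2, 3, 2, 3, 1, 2, 3, 2, 3, 1, 2, 3, 2, 3, 1, 2, 3, 2, 3, 1, 2, 3, 2, 3, 4, 1, 2, 3, 2, 3]) (.leaf 33 0 []))) (.node (.node (.leaf 13 1 [4, 3, 4, 3, 4, 3]) (.leaf 33 0 [])) (.node (.leaf 16 21 [2, 3, 2, 3, 4, 1, 2, 3, 2, 3, 1, 2, 3, 2, 3, 1, 2, 3, 2, 3, 1, 2, 3, 2, 3, 1, 2, 3, 2, 3, 4, 1, 2, 3, 2, 3, 1, 2, 3, 2, 3, 1, 2, 3, 2, 3, 1, 2, 3, 2, 3, 1, 2, 3, 2, 3, 4, 1,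 2, 3, 2, 3, 1, 2, 3, 2, 3, 1, 2, 3, 2, 3, 1, 2, 3, 2, 3, 1]) (.leaf 33 0 []))))) (.node (.node (.node (.node (.leaf 2 0 [0, 2, 0, 2]) (.leaf 28 1 [9, 0])) (.node (.leaf 16 1 [2, 3, 2, 3, 1, 2, 3, 2, 3, 1, 2, 3, 2, 3, 1, 2, 3, 2, 3, 1, 2, 3, 2, 3, 4, 1, 2, 3, 2, 3, 1, 2, 3, 2, 3, 1, 2, 3, 2, 3, 1, 2, 3, 2, 3, 1, 2, 3, 2, 3, 4, 1, 2, 3, 2, 3, 1, 2, 3, 2, 3, 1, 2, 3, 2, 3, 1, 2, 3, 2, 3, 1, 2, 3, 2, 3, 4, 1]) (.leaf 33 0 []))) (.node (.node (.leaf 11 0 [2, 4, 2, 4]) (.leaf 32 5 [2, 3, 13, 3, 2, 3, 4, 3])) (.node (.leaf 16 17 [3, 2, 3, 1, 2, 3, 2, 3, 4, 1, 2, 3, 2, 3, 1, 2, 3, 2, 3, 1, 2, 3, 2, 3, 1, 2, 3, 2, 3, 1, 2, 3, 2, 3, 4, 1, 2, 3, 2, 3, 1, 2, 3, 2, 3, 1, 2, 3, 2, 3, 1, 2, 3, 2, 3, 1, 2, 3, 2, 3, 4, 1, 2, 3, 2, 3,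 1, 2, 3, 2, 3, 1, 2, 3, 2, 3, 1, 2]) (.leaf 33 0 [])))) (.node (.node (.node (.leaf 6 1 [2, 1, 2, 1, 2, 1]) (.leaf 31 3 [2, 1, 12, 1, 2, 3])) (.node (.leaf 16 9 [3, 1, 2, 3, 2, 3, 1, 2, 3, 2, 3, 1, 2, 3, 2, 3, 4, 1, 2, 3, 2, 3, 1, 2, 3, 2, 3, 1, 2, 3, 2, 3, 1, 2, 3, 2, 3, 1, 2, 3, 2, 3, 4, 1, 2, 3, 2, 3, 1, 2, 3, 2, 3, 1, 2, 3, 2, 3, 1, 2, 3, 2, 3, 1, 2, 3, 2, 3, 4, 1, 2, 3, 2, 3, 1, 2, 3, 2]) (.leaf 33 0 []))) (.node (.node (.leaf 15 2 [2, 3, 2, 3, 2, 3, 2, 0, 3]) (.leaf 33 0 [])) (.node (.leaf 16 25 [4, 1, 2, 3, 2, 3, 1, 2, 3, 2, 3, 1, 2, 3, 2, 3, 1, 2, 3, 2, 3, 1, 2, 3, 2, 3, 4, 1, 2, 3, 2, 3, 1, 2, 3, 2, 3, 1, 2, 3, 2, 3, 1, 2, 3, 2, 3, 1, 2, 3, 2, 3, 4, 1, 2, 3, 2, 3, 1, 2, 3, 2, 3, 1, 2, 3, 2, 3, 1, 2, 3, 2, 3,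 1, 2, 3, 2, 3]) (.leaf 33 0 [])))))) (.node (.node (.node (.node (.node (.leaf 1 0 [0, 1, 0, 1, 0, 1, 0, 1, 0, 1]) (.leaf 26 1 [8, 7])) (.node (.leaf 15 8 [2, 0, 3, 2, 3, 2, 3, 2, 3]) (.leaf 33 0 []))) (.node (.node (.leaf 10 0 [2, 3, 2, 3, 2, 3, 2, 3, 2, 3, 2, 3, 2, 3, 2, 3]) (.leaf 32 3 [4, 3, 2, 3, 13, 3, 2, 3])) (.node (.leaf 16 15 [1, 2, 3, 2, 3, 1, 2, 3, 2, 3, 4, 1, 2, 3, 2, 3, 1, 2, 3, 2, 3, 1, 2, 3, 2, 3, 1, 2, 3, 2, 3, 1, 2, 3, 2, 3, 4, 1, 2, 3, 2, 3, 1, 2, 3, 2, 3, 1, 2, 3, 2, 3, 1, 2, 3, 2, 3, 1, 2, 3, 2, 3, 4, 1, 2, 3, 2, 3, 1, 2, 3, 2, 3, 1, 2, 3, 2, 3]) (.leaf 33 0 [])))) (.node (.node (.node (.leaf 5 0 [1, 1]) (.leaf 31 1 [2, 3, 2, 1, 12, 1])) (.node (.leaf 16 7 [3, 2, 3, 1, 2, 3, 2, 3, 1, 2, 3, 2, 3,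 1, 2, 3, 2, 3, 4, 1, 2, 3, 2, 3, 1, 2, 3, 2, 3, 1, 2, 3, 2, 3, 1, 2, 3, 2, 3, 1, 2, 3, 2, 3, 4, 1, 2, 3, 2, 3, 1, 2, 3, 2, 3, 1, 2, 3, 2, 3, 1, 2, 3, 2, 3, 1, 2, 3, 2, 3, 4, 1, 2, 3, 2, 3, 1, 2]) (.leaf 33 0 []))) (.node (.node (.leaf 15 0 [0, 3, 2, 3, 2, 3, 2, 3, 2]) (.leaf 33 0 [])) (.node (.leaf 16 23 [2, 3, 4, 1, 2, 3, 2, 3, 1, 2, 3, 2, 3, 1, 2, 3, 2, 3, 1, 2, 3, 2, 3, 1, 2, 3, 2, 3, 4, 1, 2, 3, 2, 3, 1, 2, 3, 2, 3, 1, 2, 3, 2, 3, 1, 2, 3, 2, 3, 1, 2, 3, 2, 3, 4, 1, 2, 3, 2, 3, 1, 2, 3, 2, 3, 1, 2, 3, 2, 3, 1, 2, 3, 2, 3, 1, 2, 3]) (.leaf 33 0 []))))) (.node (.node (.node (.node (.leaf 3 0 [0, 3, 0, 3]) (.leaf 29 1 [10, 2])) (.node (.leaf 16 3 [2, 3, 1, 2, 3, 2, 3, 1, 2, 3, 2, 3, 1, 2, 3, 2, 3, 1, 2, 3, 2, 3, 4,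 1, 2, 3, 2, 3, 1, 2, 3, 2, 3, 1, 2, 3, 2, 3, 1, 2, 3, 2, 3, 1, 2, 3, 2, 3, 4, 1, 2, 3, 2, 3, 1, 2, 3, 2, 3, 1, 2, 3, 2, 3, 1, 2, 3, 2, 3, 1, 2, 3, 2, 3, 4, 1, 2, 3]) (.leaf 33 0 []))) (.node (.node (.leaf 12 0 [3, 3]) (.leaf 32 7 [13, 3, 2, 3, 4, 3, 2, 3])) (.node (.leaf 16 19 [3, 1, 2, 3, 2, 3, 4, 1, 2, 3, 2, 3, 1, 2, 3, 2, 3, 1, 2, 3, 2, 3, 1, 2, 3, 2, 3, 1, 2, 3, 2, 3, 4, 1, 2, 3, 2, 3, 1, 2, 3, 2, 3, 1, 2, 3, 2, 3, 1, 2, 3, 2, 3, 1, 2, 3, 2, 3, 4, 1, 2, 3, 2, 3, 1, 2, 3, 2, 3, 1, 2, 3, 2, 3, 1, 2, 3, 2]) (.leaf 33 0 [])))) (.node (.node (.node (.leaf 7 1 [3, 1, 3, 1]) (.leaf 31 5 [12, 1, 2, 3, 2, 1])) (.node (.leaf 16 11 [2, 3, 2, 3, 1, 2, 3, 2, 3, 1, 2, 3, 2, 3, 4, 1, 2, 3, 2, 3, 1, 2, 3, 2, 3, 1, 2, 3, 2, 3, 1,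 2, 3, 2, 3, 1, 2, 3, 2, 3, 4, 1, 2, 3, 2, 3, 1, 2, 3, 2, 3, 1, 2, 3, 2, 3, 1, 2, 3, 2, 3, 1, 2, 3, 2, 3, 4, 1, 2, 3, 2, 3, 1, 2, 3, 2, 3, 1]) (.leaf 33 0 []))) (.node (.node (.leaf 15 4 [2, 3, 2, 3, 2, 0, 3, 2, 3]) (.leaf 33 0 [])) (.node (.leaf 18 0 [7]) (.leaf 33 0 []))))))) (.node (.node (.node (.node (.node (.node (.leaf 0 0 [0, 0]) (.leaf 26 0 [7, 8])) (.node (.leaf 15 7 [3, 2, 0, 3, 2, 3, 2, 3, 2]) (.leaf 33 0 []))) (.node (.node (.leaf 9 0 [2, 2]) (.leaf 32 2 [3, 4, 3, 2, 3, 13, 3, 2])) (.node (.leaf 16 14 [3, 1, 2, 3, 2, 3, 1, 2, 3, 2, 3, 4, 1, 2, 3, 2, 3, 1, 2, 3, 2, 3, 1, 2, 3, 2, 3, 1, 2, 3, 2, 3, 1, 2, 3, 2, 3, 4, 1, 2, 3, 2, 3, 1, 2, 3, 2, 3, 1, 2, 3, 2, 3, 1, 2, 3, 2, 3, 1, 2, 3, 2, 3, 4, 1, 2, 3, 2, 3,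 1, 2, 3, 2, 3, 1, 2, 3, 2]) (.leaf 33 0 [])))) (.node (.node (.node (.leaf 4 1 [4, 0, 4, 0]) (.leaf 31 0 [1, 2, 3, 2, 1, 12])) (.node (.leaf 16 6 [2, 3, 2, 3, 1, 2, 3, 2, 3, 1, 2, 3, 2, 3, 1, 2, 3, 2, 3, 4, 1, 2, 3, 2, 3, 1, 2, 3, 2, 3, 1, 2, 3, 2, 3, 1, 2, 3, 2, 3, 1, 2, 3, 2, 3, 4, 1, 2, 3, 2, 3, 1, 2, 3, 2, 3, 1, 2, 3, 2, 3, 1, 2, 3, 2, 3, 1, 2, 3, 2, 3, 4, 1, 2, 3, 2, 3, 1]) (.leaf 33 0 []))) (.node (.node (.leaf 14 0 [4, 4]) (.leaf 33 0 [])) (.node (.leaf 16 22 [3, 2, 3, 4, 1, 2, 3, 2, 3, 1, 2, 3, 2, 3, 1, 2, 3, 2, 3, 1, 2, 3, 2, 3, 1, 2, 3, 2, 3, 4, 1, 2, 3, 2, 3, 1, 2, 3, 2, 3, 1, 2, 3, 2, 3, 1, 2, 3, 2, 3, 1, 2, 3, 2, 3, 4, 1, 2, 3, 2, 3, 1, 2, 3, 2, 3, 1, 2, 3, 2, 3, 1, 2, 3, 2, 3, 1, 2]) (.leaf 33 0 [])))))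 (.node (.node (.node (.node (.leaf 2 1 [2, 0, 2, 0]) (.leaf 29 0 [2, 10])) (.node (.leaf 16 2 [3, 2, 3, 1, 2, 3, 2, 3, 1, 2, 3, 2, 3, 1, 2, 3, 2, 3, 1, 2, 3, 2, 3, 4, 1, 2, 3, 2, 3, 1, 2, 3, 2, 3, 1, 2, 3, 2, 3, 1, 2, 3, 2, 3, 1, 2, 3, 2, 3, 4, 1, 2, 3, 2, 3, 1, 2, 3, 2, 3, 1, 2, 3, 2, 3, 1, 2, 3, 2, 3, 1, 2, 3, 2, 3, 4, 1, 2]) (.leaf 33 0 []))) (.node (.node (.leaf 11 1 [4, 2, 4, 2]) (.leaf 32 6 [3, 13, 3, 2, 3, 4, 3, 2])) (.node (.leaf 16 18 [2, 3, 1, 2, 3, 2, 3, 4, 1, 2, 3, 2, 3, 1, 2, 3, 2, 3, 1, 2, 3, 2, 3, 1, 2, 3, 2, 3, 1, 2, 3, 2, 3, 4, 1, 2, 3, 2, 3, 1, 2, 3, 2, 3, 1, 2, 3, 2, 3, 1, 2, 3, 2, 3, 1, 2, 3, 2, 3, 4, 1, 2, 3, 2, 3, 1, 2, 3, 2, 3, 1, 2, 3, 2, 3, 1, 2, 3]) (.leaf 33 0 [])))) (.node (.node (.node (.leaf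 7 0 [1, 3, 1, 3]) (.leaf 31 4 [1, 12, 1, 2, 3, 2])) (.node (.leaf 16 10 [1, 2, 3, 2, 3, 1, 2, 3, 2, 3, 1, 2, 3, 2, 3, 4, 1, 2, 3, 2, 3, 1, 2, 3, 2, 3, 1, 2, 3, 2, 3, 1, 2, 3, 2, 3, 1, 2, 3, 2, 3, 4, 1, 2, 3, 2, 3, 1, 2, 3, 2, 3, 1, 2, 3, 2, 3, 1, 2, 3, 2, 3, 1, 2, 3, 2, 3, 4, 1, 2, 3, 2, 3, 1, 2, 3, 2, 3]) (.leaf 33 0 []))) (.node (.node (.leaf 15 3 [3, 2, 3, 2, 3, 2, 0, 3, 2]) (.leaf 33 0 [])) (.node (.leaf 17 0 [5]) (.leaf 33 0 [])))))) (.node (.node (.node (.node (.node (.leaf 1 1 [1, 0, 1, 0, 1, 0, 1, 0, 1, 0]) (.leaf 28 0 [0, 9])) (.node (.leaf 16 0 [1, 2, 3, 2, 3, 1, 2, 3, 2, 3, 1, 2, 3, 2, 3, 1, 2, 3, 2, 3, 1, 2, 3, 2, 3, 4, 1, 2, 3, 2, 3, 1, 2, 3, 2, 3, 1, 2, 3, 2, 3, 1, 2, 3, 2, 3, 1, 2, 3, 2, 3, 4, 1, 2, 3,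 2, 3, 1, 2, 3, 2, 3, 1, 2, 3, 2, 3, 1, 2, 3, 2, 3, 1, 2, 3, 2, 3, 4]) (.leaf 33 0 []))) (.node (.node (.leaf 10 1 [3, 2, 3, 2, 3, 2, 3, 2, 3, 2, 3, 2, 3, 2, 3, 2]) (.leaf 32 4 [3, 2, 3, 13, 3, 2, 3, 4])) (.node (.leaf 16 16 [2, 3, 2, 3, 1, 2, 3, 2, 3, 4, 1, 2, 3, 2, 3, 1, 2, 3, 2, 3, 1, 2, 3, 2, 3, 1, 2, 3, 2, 3, 1, 2, 3, 2, 3, 4, 1, 2, 3, 2, 3, 1, 2, 3, 2, 3, 1, 2, 3, 2, 3, 1, 2, 3, 2, 3, 1, 2, 3, 2, 3, 4, 1, 2, 3, 2, 3, 1, 2, 3, 2, 3, 1, 2, 3, 2, 3, 1]) (.leaf 33 0 [])))) (.node (.node (.node (.leaf 6 0 [1, 2, 1, 2, 1, 2]) (.leaf 31 2 [3, 2, 1, 12, 1, 2])) (.node (.leaf 16 8 [2, 3, 1, 2, 3, 2, 3, 1, 2, 3, 2, 3, 1, 2, 3, 2, 3, 4, 1, 2, 3, 2, 3, 1, 2, 3, 2, 3, 1, 2, 3, 2, 3, 1, 2, 3, 2, 3, 1, 2, 3, 2, 3, 4, 1, 2, 3,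 2, 3, 1, 2, 3, 2, 3, 1, 2, 3, 2, 3, 1, 2, 3, 2, 3, 1, 2, 3, 2, 3, 4, 1, 2, 3, 2, 3, 1, 2, 3]) (.leaf 33 0 []))) (.node (.node (.leaf 15 1 [3, 2, 3, 2, 3, 2, 3, 2, 0]) (.leaf 33 0 [])) (.node (.leaf 16 24 [3, 4, 1, 2, 3, 2, 3, 1, 2, 3, 2, 3, 1, 2, 3, 2, 3, 1, 2, 3, 2, 3, 1, 2, 3, 2, 3, 4, 1, 2, 3, 2, 3, 1, 2, 3, 2, 3, 1, 2, 3, 2, 3, 1, 2, 3, 2, 3, 1, 2, 3, 2, 3, 4, 1, 2, 3, 2, 3, 1, 2, 3, 2, 3, 1, 2, 3, 2, 3, 1, 2, 3, 2, 3, 1, 2, 3, 2]) (.leaf 33 0 []))))) (.node (.node (.node (.node (.leaf 3 1 [3, 0, 3, 0]) (.leaf 30 0 [4, 11])) (.node (.leaf 16 4 [3, 1, 2, 3, 2, 3, 1, 2, 3, 2, 3, 1, 2, 3, 2, 3, 1, 2, 3, 2, 3, 4, 1, 2, 3, 2, 3, 1, 2, 3, 2, 3, 1, 2, 3, 2, 3, 1, 2, 3, 2, 3, 1, 2, 3, 2, 3, 4, 1, 2, 3, 2, 3, 1, 2, 3, 2,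 3, 1, 2, 3, 2, 3, 1, 2, 3, 2, 3, 1, 2, 3, 2, 3, 4, 1, 2, 3, 2]) (.leaf 33 0 []))) (.node (.node (.leaf 13 0 [3, 4, 3, 4, 3, 4]) (.leaf 33 0 [])) (.node (.leaf 16 20 [1, 2, 3, 2, 3, 4, 1, 2, 3, 2, 3, 1, 2, 3, 2, 3, 1, 2, 3, 2, 3, 1, 2, 3, 2, 3, 1, 2, 3, 2, 3, 4, 1, 2, 3, 2, 3, 1, 2, 3, 2, 3, 1, 2, 3, 2, 3, 1, 2, 3, 2, 3, 1, 2, 3, 2, 3, 4, 1, 2, 3, 2, 3, 1, 2, 3, 2, 3, 1, 2, 3, 2, 3, 1, 2, 3, 2, 3]) (.leaf 33 0 [])))) (.node (.node (.node (.leaf 8 0 [1, 4, 1, 4]) (.leaf 32 0 [3, 2, 3, 4, 3, 2, 3, 13])) (.node (.leaf 16 12 [3, 2, 3, 1, 2, 3, 2, 3, 1, 2, 3, 2, 3, 4, 1, 2, 3, 2, 3, 1, 2, 3, 2, 3, 1, 2, 3, 2, 3, 1, 2, 3, 2, 3, 1, 2, 3, 2, 3, 4, 1, 2, 3, 2, 3, 1, 2, 3, 2, 3, 1, 2, 3, 2, 3, 1, 2, 3, 2, 3, 1, 2, 3, 2, 3, 4, 1,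 2, 3, 2, 3, 1, 2, 3, 2, 3, 1, 2]) (.leaf 33 0 []))) (.node (.node (.leaf 15 5 [3, 2, 3, 2, 0, 3, 2, 3, 2]) (.leaf 33 0 [])) (.node (.leaf 24 0 [5, 6]) (.leaf 33 0 []))))))))
noncomputable def VL : List ℕ := [V0, V1, V2, V3, V4, V5, V6, V7, V8]
noncomputable def RL : List ℕ := [R0, R1, R2, R3, R4, R5, R6, R7, R8, R9, R10, R11, R12, R13]
noncomputable def D : Data := mkData 17 82637 315 8 131071 VL RL MG MT PAR PL FIN VERT vtree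
def lay : Layout := ⟨17, 131071, 7, 127, 87⟩
def cols : List ℕ := [0, 1, 2, 3, 4, 5, 6, 7, 8]
def baseL : List (List ℕ) := [[0, 0],
  [0, 1, 0, 1, 0, 1, 0, 1, 0, 1],
  [0, 2, 0, 2],
  [0, 3, 0, 3],
  [0, 4, 0, 4],
  [1, 1],
  [1, 2, 1, 2, 1, 2],
  [1, 3, 1, 3],
  [1, 4, 1, 4],
  [2, 2],
  [2, 3, 2, 3, 2, 3, 2, 3, 2, 3, 2, 3, 2, 3, 2, 3],
  [2, 4, 2, 4],
  [3, 3],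
  [3, 4, 3, 4, 3, 4],
  [4, 4],
  [0, 3, 2, 3, 2, 3, 2, 3, 2],
  [1, 2, 3, 2, 3, 1, 2, 3, 2, 3, 1, 2, 3, 2, 3, 1, 2, 3, 2, 3, 1, 2, 3, 2, 3, 4, 1, 2, 3, 2, 3, 1, 2, 3, 2, 3, 1, 2, 3, 2, 3, 1, 2, 3, 2, 3, 1, 2, 3, 2, 3, 4, 1, 2, 3, 2, 3, 1, 2, 3, 2, 3, 1, 2, 3, 2, 3, 1, 2, 3, 2, 3, 1, 2, 3, 2, 3, 4],
  [5],
  [7],
  [0, 0],
  [1, 1],
  [2, 2],
  [3, 3],
  [4, 4],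
  [5, 6],
  [6, 5],
  [7, 8],
  [8, 7],
  [0, 9],
  [2, 10],
  [4, 11],
  [1, 2, 3, 2, 1, 12],
  [3, 2, 3, 4, 3, 2, 3, 13]]
noncomputable def LL : List ℕ := [L0, L1, L2, L3, L4, L5, L6, L7, L8]
noncomputable def P : LP where
  WL := 12
  WLn := 3780
  mskL := 4095
  LL := LL
  cols := [0, 1, 2, 3, 4, 5, 6, 7, 8]
  rels := [[0, 0],
    [0, 1, 0, 1, 0, 1, 0, 1, 0, 1],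
    [0, 2, 0, 2],
    [0, 3, 0, 3],
    [0, 4, 0, 4],
    [1, 1],
    [1, 2, 1, 2, 1, 2],
    [1, 3, 1, 3],
    [1, 4, 1, 4],
    [2, 2],
    [2, 3, 2, 3, 2, 3, 2, 3, 2, 3, 2, 3, 2, 3, 2, 3],
    [2, 4, 2, 4],
    [3, 3],
    [3, 4, 3, 4, 3, 4],
    [4, 4],
    [0, 3, 2, 3, 2, 3, 2, 3, 2],
    [1, 2, 3, 2, 3, 1, 2, 3, 2, 3, 1, 2, 3, 2, 3, 1, 2, 3, 2, 3, 1, 2, 3, 2, 3, 4, 1, 2, 3, 2, 3, 1, 2, 3, 2, 3, 1, 2, 3, 2, 3, 1, 2, 3, 2, 3, 1, 2, 3, 2, 3, 4, 1, 2, 3, 2, 3, 1, 2, 3, 2, 3, 1, 2, 3, 2, 3, 1, 2, 3, 2, 3, 1, 2, 3, 2, 3, 4],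
    [5],
    [7],
    [0, 0],
    [1, 1],
    [2, 2],
    [3, 3],
    [4, 4],
    [5, 6],
    [6, 5],
    [7, 8],
    [8, 7]]
  hws := [[0],
    [2],
    [4],
    [1, 2, 3, 2, 1],
    [3, 2, 3, 4, 3, 2, 3]]
  twl := [[],
    [0],
    [2],
    [4],
    [1, 2, 3, 2, 1],
    [3, 2, 3, 4, 3, 2, 3],
    [0],
    [1],
    [2],
    [3],
    [4],
    [5],
    [6],
    [7],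
    [8]]
  nH := 5
  bounds := [12, 1932, 2892, 3276, 3660]

end Cfsg.Agent.Lib.Helper29.SuzG1
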